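import Mathlib
import Groth.Agent.S14271

/-!
# An algebraic Hartogs lemma

`A → Γ` an algebra which "looks like" restriction of functions from `Spec A` to the quasi-compact
open `⋃_{f ∈ F} D(f)`.  If every local ring `A_𝔭` with `𝔭 ⊇ F` has depth `≥ 2`, then `A → Γ` is
bijective.
-/

set_option autoImplicit false

open scoped Pointwise

namespace Groth.Agent.Helper19.Hartogs

/-- elementwise form of "the maximal ideal contains a regular sequence of length two". -/
def Dep2 (S : Type*) [CommRing S] [IsLocalRing S] : Prop :=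
  ∃ a b : S, a ∈ IsLocalRing.maximalIdeal S ∧ b ∈ IsLocalRing.maximalIdeal S ∧
    (∀ x, a * x = 0 → x = 0) ∧ (∀ x y, b * x = a * y → ∃ z, x = a * z)

lemma dep2_of_isWeaklyRegular {S : Type*} [CommRing S] [IsLocalRing S] (a b : S)
    (ha : a ∈ IsLocalRing.maximalIdeal S) (hb : b ∈ IsLocalRing.maximalIdeal S)
    (h : RingTheory.Sequence.IsWeaklyRegular S [a, b]) : Dep2 S := by
  rw [RingTheory.Sequence.isWeaklyRegular_cons_iff,
    RingTheory.Sequence.isWeaklyRegular_singleton_iff] at h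
  obtain ⟨h1, h2⟩ := h
  refine ⟨a, b, ha, hb, ?_, ?_⟩
  · intro x hx
    exact h1 (by simpa using hx)
  · intro x y hxy
    have h3 := (isSMulRegular_quotient_iff_mem_of_smul_mem (a • (⊤ : Submodule S S)) b).mp h2 x
    have h4 : b • x ∈ a • (⊤ : Submodule S S) := by
      rw [Submodule.mem_smul_pointwise_iff_exists]
      exact ⟨y, Submodule.mem_top, by simpa using hxy.symm⟩
    have h5 := h3 h4
    rw [Submodule.mem_smul_pointwise_iff_exists] at h5
    obtain ⟨z, -, hz⟩ := h5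
    exact ⟨z, by simpa using hz.symm⟩

lemma Dep2.of_ringEquiv {S T : Type*} [CommRing S] [IsLocalRing S] [CommRing T] [IsLocalRing T]
    (e : S ≃+* T) (h : Dep2 S) : Dep2 T := by
  obtain ⟨a, b, ha, hb, h1, h2⟩ := h
  have hmem : ∀ x : S, x ∈ IsLocalRing.maximalIdeal S → e x ∈ IsLocalRing.maximalIdeal T := by
    intro x hx
    rw [IsLocalRing.mem_maximalIdeal, mem_nonunits_iff] at hx ⊢
    intro hu
    apply hx
    have := hu.map e.symm
    simpa using this
  refine ⟨e a, e b, hmem a ha, hmem b hb, ?_, ?_⟩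
  · intro x hx
    have : a * e.symm x = 0 := by
      apply e.injective
      simpa using hx
    have := h1 _ this
    simpa using congrArg e this
  · intro x y hxy
    have : b * e.symm x = a * e.symm y := by
      apply e.injective
      simpa using hxy
    obtain ⟨z, hz⟩ := h2 _ _ this
    refine ⟨e z, ?_⟩
    have := congrArg e hz
    simpa using this

section Pow
variable {S : Type*} [CommRing S]

lemma mem_pow_of_mul_mem {a b : S} (h1 : ∀ x, a * x = 0 → x = 0)
    (h2 : ∀ x y, b * x = a * y → ∃ z, x = a * z) (k : ℕ) :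
    ∀ x y, b * x = a ^ k * y → ∃ z, x = a ^ k * z := by
  induction k with
  | zero => intro x y _; exact ⟨x, by simp⟩
  | succ k ih =>
    intro x y hxy
    obtain ⟨z, rfl⟩ := h2 x (a ^ k * y) (by rw [hxy]; ring)
    have : b * z = a ^ k * y := by
      have h3 : a * (b * z - a ^ k * y) = 0 := by
        have : a * (b * z) = a ^ (k + 1) * y := by rw [← hxy]; ring
        rw [mul_sub, this]; ring
      have := h1 _ h3
      exact sub_eq_zero.mp this
    obtain ⟨w, rfl⟩ := ih z y this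
    exact ⟨w, by ring⟩

lemma mem_pow_of_pow_mul_mem {a b : S} (h1 : ∀ x, a * x = 0 → x = 0)
    (h2 : ∀ x y, b * x = a * y → ∃ z, x = a * z) (k l : ℕ) :
    ∀ x y, b ^ l * x = a ^ k * y → ∃ z, x = a ^ k * z := by
  induction l with
  | zero => intro x y hxy; exact ⟨y, by simpa using hxy⟩
  | succ l ih =>
    intro x y hxy
    have : b ^ l * (b * x) = a ^ k * y := by rw [← hxy]; ring
    obtain ⟨z, hz⟩ := ih _ _ this
    exact mem_pow_of_mul_mem h1 h2 k x z hz

end Pow

variable {A Γ : Type*} [CommRing A] [CommRing Γ] [Algebra A Γ]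

/-- `Γ` behaves like the ring of functions on the open `⋃_{f ∈ F} D(f)` of `Spec A`. -/
structure HData (A Γ : Type*) [CommRing A] [CommRing Γ] [Algebra A Γ] (F : Finset A) : Prop where
  sep : ∀ τ : Γ, (∀ f ∈ F, ∃ N : ℕ, f ^ N • τ = 0) → τ = 0
  surj : ∀ f ∈ F, ∀ τ : Γ, ∃ (N : ℕ) (c : A), f ^ N • τ = algebraMap A Γ c
  inj : ∀ f ∈ F, ∀ c : A, algebraMap A Γ c = 0 → ∃ N : ℕ, f ^ N * c = 0

variable {F : Finset A}

theorem HData.injective (H : HData A Γ F)
    (hdep : ∀ (𝔭 : Ideal A) [𝔭.IsPrime], (∀ f ∈ F, f ∈ 𝔭) → Dep2 (Localization.AtPrime 𝔭)) :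
    Function.Injective (algebraMap A Γ) := by
  rw [injective_iff_map_eq_zero]
  intro c hc
  by_contra hc0
  obtain ⟨𝔭, h𝔭⟩ := Groth.Agent.S14271.exists_minPrime c hc0
  have hp : 𝔭.IsPrime := h𝔭.1.1
  have hF : ∀ f ∈ F, f ∈ 𝔭 := by
    intro f hf
    obtain ⟨N, hN⟩ := H.inj f hf c hc
    have : f ^ N ∈ Ideal.torsionOf A A c := by
      rw [Ideal.mem_torsionOf_iff]; simpa using hN
    exact hp.mem_of_pow_mem N (h𝔭.1.2 this)
  obtain ⟨a, b, ha, hb, h1, h2⟩ := hdep 𝔭 hF
  refine Groth.Agent.S14271.no_regular (S := Localization.AtPrime 𝔭) 𝔭 c h𝔭 a ha ?_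
  intro x y hxy
  have : a * (x - y) = 0 := by
    simp only [smul_eq_mul] at hxy
    rw [mul_sub, hxy, sub_self]
  exact sub_eq_zero.mp (h1 _ this)


variable (A) in
/-- the conductor of `σ` into the image of `A`. -/
def conductor (σ : Γ) : Ideal A where
  carrier := {x | ∃ c : A, x • σ = algebraMap A Γ c}
  add_mem' := by
    rintro x y ⟨c, hc⟩ ⟨d, hd⟩
    exact ⟨c + d, by rw [add_smul, hc, hd, map_add]⟩
  zero_mem' := ⟨0, by simp⟩
  smul_mem' := by
    rintro r x ⟨c, hc⟩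
    exact ⟨r * c, by rw [smul_eq_mul, mul_smul, hc, map_mul, Algebra.smul_def]⟩

lemma mem_conductor {σ : Γ} {x : A} :
    x ∈ conductor A σ ↔ ∃ c : A, x • σ = algebraMap A Γ c := Iff.rfl

lemma HData.exists_smul_eq_zero (H : HData A Γ F) (hinj : Function.Injective (algebraMap A Γ))
    (𝔭 : Ideal A) [𝔭.IsPrime] (x : A)
    (hx : ∀ y : Localization.AtPrime 𝔭, algebraMap A (Localization.AtPrime 𝔭) x * y = 0 → y = 0)
    (τ : Γ) (hτ : x • τ = 0) : ∃ w ∉ 𝔭, w • τ = 0 := by
  have step : ∀ f ∈ F, ∃ w ∉ 𝔭, ∃ N : ℕ, (w * f ^ N) • τ = 0 := by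
    intro f hf
    obtain ⟨N, c, hc⟩ := H.surj f hf τ
    have h0 : algebraMap A Γ (x * c) = 0 := by
      rw [map_mul, ← hc, ← Algebra.smul_def, smul_comm, hτ, smul_zero]
    have h1 : x * c = 0 := hinj (by rw [h0, map_zero])
    have h2 : algebraMap A (Localization.AtPrime 𝔭) c = 0 := by
      apply hx
      rw [← map_mul, h1, map_zero]
    rw [IsLocalization.map_eq_zero_iff 𝔭.primeCompl] at h2
    obtain ⟨w, hw⟩ := h2
    refine ⟨w, w.2, N, ?_⟩
    rw [mul_smul, hc, Algebra.smul_def, ← map_mul, hw, map_zero]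
  have key : ∀ F' : Finset A, F' ⊆ F → ∃ w ∉ 𝔭, ∀ f ∈ F', ∃ N : ℕ, f ^ N • (w • τ) = 0 := by
    classical
    intro F'
    induction F' using Finset.induction_on with
    | empty => intro _; exact ⟨1, (Ideal.ne_top_iff_one 𝔭).mp (Ideal.IsPrime.ne_top ‹_›), by simp⟩
    | insert g F'' hg ih =>
      intro hsub
      obtain ⟨w', hw', h'⟩ := ih ((Finset.subset_insert g F'').trans hsub)
      obtain ⟨wg, hwg, N, hN⟩ := step g (hsub (Finset.mem_insert_self g F''))
      refine ⟨wg * w', ?_, ?_⟩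
      · intro hmem
        rcases Ideal.IsPrime.mem_or_mem ‹_› hmem with h | h
        · exact hwg h
        · exact hw' h
      · intro f hf
        rcases Finset.mem_insert.mp hf with rfl | hf
        · refine ⟨N, ?_⟩
          rw [← mul_smul, show f ^ N * (wg * w') = w' * (wg * f ^ N) by ring, mul_smul, hN,
            smul_zero]
        · obtain ⟨M, hM⟩ := h' f hf
          refine ⟨M, ?_⟩
          rw [mul_smul, smul_comm, hM, smul_zero]
  obtain ⟨w, hw, h⟩ := key F (Finset.Subset.refl F)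
  exact ⟨w, hw, H.sep _ h⟩

lemma exists_pow_mul_eq_of_minimalPrimes (I : Ideal A) (𝔭 : Ideal A) [𝔭.IsPrime]
    (h𝔭 : 𝔭 ∈ I.minimalPrimes) (t : Localization.AtPrime 𝔭)
    (ht : t ∈ IsLocalRing.maximalIdeal (Localization.AtPrime 𝔭)) :
    ∃ (k : ℕ) (x : A) (s : A), x ∈ I ∧ s ∉ 𝔭 ∧
      t ^ k * algebraMap A (Localization.AtPrime 𝔭) s = algebraMap A (Localization.AtPrime 𝔭) x := by
  have hrad : t ∈ (Ideal.map (algebraMap A (Localization.AtPrime 𝔭)) I).radical := by
    rw [Ideal.radical_eq_sInf, Ideal.mem_sInf]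
    rintro q ⟨hIq, hq⟩
    have hq1 : (q.under A) ≤ 𝔭 := by
      have h0 := IsLocalization.AtPrime.under_maximalIdeal (Localization.AtPrime 𝔭) 𝔭
      calc q.under A ≤ (IsLocalRing.maximalIdeal (Localization.AtPrime 𝔭)).under A :=
            Ideal.comap_mono (IsLocalRing.le_maximalIdeal hq.ne_top)
        _ = 𝔭 := h0
    have hq2 : I ≤ q.under A := Ideal.le_comap_of_map_le hIq
    have h3 : 𝔭 ≤ q.under A := h𝔭.2 ⟨inferInstance, hq2⟩ hq1
    have : IsLocalRing.maximalIdeal (Localization.AtPrime 𝔭) ≤ q := by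
      calc IsLocalRing.maximalIdeal (Localization.AtPrime 𝔭)
          = Ideal.map (algebraMap A (Localization.AtPrime 𝔭))
              ((IsLocalRing.maximalIdeal (Localization.AtPrime 𝔭)).under A) :=
            (IsLocalization.map_under 𝔭.primeCompl (Localization.AtPrime 𝔭) _).symm
        _ = Ideal.map (algebraMap A (Localization.AtPrime 𝔭)) 𝔭 := by
            rw [IsLocalization.AtPrime.under_maximalIdeal (Localization.AtPrime 𝔭) 𝔭]
        _ ≤ Ideal.map (algebraMap A (Localization.AtPrime 𝔭)) (q.under A) := Ideal.map_mono h3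
        _ = q := IsLocalization.map_under 𝔭.primeCompl (Localization.AtPrime 𝔭) _
    exact this ht
  obtain ⟨k, hk⟩ := hrad
  rw [IsLocalization.mem_map_algebraMap_iff 𝔭.primeCompl] at hk
  obtain ⟨⟨x, s⟩, hxs⟩ := hk
  exact ⟨k, x, s, x.2, s.2, hxs⟩

theorem HData.surjective (H : HData A Γ F)
    (hdep : ∀ (𝔭 : Ideal A) [𝔭.IsPrime], (∀ f ∈ F, f ∈ 𝔭) → Dep2 (Localization.AtPrime 𝔭)) :
    Function.Surjective (algebraMap A Γ) := by
  have hinj := H.injective hdep
  intro σ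
  by_contra hσ
  have hI : conductor A σ ≠ ⊤ := by
    intro h
    have : (1 : A) ∈ conductor A σ := h ▸ Submodule.mem_top
    obtain ⟨c, hc⟩ := this
    exact hσ ⟨c, by rw [← hc, one_smul]⟩
  obtain ⟨⟨𝔭, h𝔭⟩⟩ := Ideal.nonempty_minimalPrimes hI
  have hp : 𝔭.IsPrime := h𝔭.1.1
  have hF : ∀ f ∈ F, f ∈ 𝔭 := by
    intro f hf
    obtain ⟨N, c, hc⟩ := H.surj f hf σ
    exact hp.mem_of_pow_mem N (h𝔭.1.2 (show f ^ N ∈ conductor A σ from ⟨c, hc⟩))
  obtain ⟨a, b, ha, hb, h1, h2⟩ := hdep 𝔭 hF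
  obtain ⟨k, x, s, hxI, hs, hxs⟩ := exists_pow_mul_eq_of_minimalPrimes _ 𝔭 h𝔭 a ha
  obtain ⟨l, y, s', hyI, hs', hys⟩ := exists_pow_mul_eq_of_minimalPrimes _ 𝔭 h𝔭 b hb
  obtain ⟨c, hc⟩ := hxI
  obtain ⟨d, hd⟩ := hyI
  -- notation
  set ι := algebraMap A (Localization.AtPrime 𝔭) with hι
  have hsu : IsUnit (ι s) := IsLocalization.map_units _ (⟨s, hs⟩ : 𝔭.primeCompl)
  have hsu' : IsUnit (ι s') := IsLocalization.map_units _ (⟨s', hs'⟩ : 𝔭.primeCompl)
  -- `y c = x d` in `A`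
  have hyc : y * c = x * d := by
    apply hinj
    rw [map_mul, map_mul, ← hc, ← hd, ← Algebra.smul_def, ← Algebra.smul_def, smul_comm]
  -- in the localization: `b^l * (s' c) = a^k * (s d)`
  have hloc : b ^ l * (ι s' * ι c) = a ^ k * (ι s * ι d) := by
    rw [← mul_assoc, hys, ← mul_assoc, hxs, ← map_mul, ← map_mul, hyc]
  obtain ⟨e, he⟩ := mem_pow_of_pow_mul_mem h1 h2 k l _ _ hloc
  -- `c = x * e''`
  obtain ⟨us, hus⟩ := hsu
  obtain ⟨us', hus'⟩ := hsu'
  have hce : ι c = ι x * (↑us⁻¹ * ↑us'⁻¹ * e) := by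
    have h3 : a ^ k = ι x * ↑us⁻¹ := by
      rw [← hxs, ← hus, mul_assoc, Units.mul_inv, mul_one]
    have h4 : ι c = ↑us'⁻¹ * (ι s' * ι c) := by
      rw [← hus', ← mul_assoc, Units.inv_mul, one_mul]
    rw [h4, he, h3]; ring
  obtain ⟨⟨e₀, u⟩, hu⟩ := IsLocalization.surj 𝔭.primeCompl (↑us⁻¹ * ↑us'⁻¹ * e)
  simp only at hu
  have h5 : ι (u * c) = ι (x * e₀) := by
    rw [map_mul, map_mul, hce, ← hu]; ring
  obtain ⟨v, hv⟩ := (IsLocalization.eq_iff_exists 𝔭.primeCompl (Localization.AtPrime 𝔭)).mp h5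
  -- the torsion element
  have hxreg : ∀ z : Localization.AtPrime 𝔭, ι x * z = 0 → z = 0 := by
    intro z hz
    rw [← hxs, ← hus] at hz
    have h6 : a ^ k * (↑us * z) = 0 := by rw [← hz]; ring
    have h7 : (↑us * z : Localization.AtPrime 𝔭) = 0 := by
      clear hz hxs hce he hloc
      induction k with
      | zero => simpa using h6
      | succ k ih =>
        apply ih
        apply h1
        rw [← h6]; ring
    have := congrArg (fun w => (↑us⁻¹ : Localization.AtPrime 𝔭) * w) h7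
    simpa using this
  have hτ : x • ((v * u : A) • σ - algebraMap A Γ (v * e₀)) = 0 := by
    rw [smul_sub, smul_comm, hc, Algebra.smul_def, Algebra.smul_def, ← map_mul, ← map_mul,
      ← map_sub]
    have : (v : A) * ↑u * c - x * (↑v * e₀) = 0 := by
      have := hv
      rw [sub_eq_zero]
      calc (v : A) * ↑u * c = ↑v * (↑u * c) := by ring
        _ = ↑v * (x * e₀) := hv
        _ = x * (↑v * e₀) := by ring
    rw [this, map_zero]
  obtain ⟨w, hw, hwτ⟩ := H.exists_smul_eq_zero hinj 𝔭 x hxreg _ hτ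
  have hmem : w * (v * u) ∈ conductor A σ := by
    refine ⟨w * (v * e₀), ?_⟩
    rw [smul_sub, sub_eq_zero] at hwτ
    rw [mul_smul, hwτ, Algebra.smul_def, ← map_mul]
  have := h𝔭.1.2 hmem
  rcases hp.mem_or_mem this with h | h
  · exact hw h
  · rcases hp.mem_or_mem h with h | h
    · exact v.2 h
    · exact u.2 h

theorem HData.bijective (H : HData A Γ F)
    (hdep : ∀ (𝔭 : Ideal A) [𝔭.IsPrime], (∀ f ∈ F, f ∈ 𝔭) → Dep2 (Localization.AtPrime 𝔭)) :
    Function.Bijective (algebraMap A Γ) :=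
  ⟨H.injective hdep, H.surjective hdep⟩

end Groth.Agent.Helper19.Hartogs
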