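import Mathlib
import Groth.Agent.Lib.Helper19.Hartogs.Alg

/-!
# Hartogs on an affine open

`V` affine open of `X`, `U' ≤ V` a quasi-compact open such that all local rings at points of
`V \ U'` have depth `≥ 2`.  Then `Γ(X, V) → Γ(X, U')` is bijective.
-/

set_option autoImplicit false
universe u

open AlgebraicGeometry CategoryTheory CategoryTheory.Limits TopologicalSpace Opposite

namespace Groth.Agent.Helper19.Hartogs

variable {X : Scheme.{u}}

/-- restricting a section in two steps -/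
lemma res_res {U₁ U₂ U₃ : X.Opens} (h₁₂ : U₂ ≤ U₁) (h₂₃ : U₃ ≤ U₂) (s : Γ(X, U₁)) :
    (X.presheaf.map (homOfLE h₂₃).op).hom ((X.presheaf.map (homOfLE h₁₂).op).hom s) =
      (X.presheaf.map (homOfLE (h₂₃.trans h₁₂)).op).hom s := by
  rw [← CommRingCat.comp_apply, ← Functor.map_comp]
  rfl

lemma exists_finset_basicOpen {V : X.Opens} (hV : IsAffineOpen V) (U' : X.Opens) (hle : U' ≤ V)
    (hc : IsCompact (U' : Set X)) :
    ∃ F : Finset Γ(X, V), (∀ g ∈ F, X.basicOpen g ≤ U') ∧
      ∀ z ∈ U', ∃ g ∈ F, z ∈ X.basicOpen g := by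
  classical
  have h1 : ∀ z : U', ∃ g : Γ(X, V), X.basicOpen g ≤ U' ∧ (z : X) ∈ X.basicOpen g :=
    fun z => hV.exists_basicOpen_le z (hle z.2)
  choose g hg1 hg2 using h1
  obtain ⟨t, ht⟩ := hc.elim_finite_subcover (fun z : U' => (X.basicOpen (g z) : Set X))
    (fun z => (X.basicOpen (g z)).isOpen)
    (fun z hz => Set.mem_iUnion.mpr ⟨⟨z, hz⟩, hg2 ⟨z, hz⟩⟩)
  refine ⟨t.image g, ?_, ?_⟩
  · intro f hf
    obtain ⟨z, -, rfl⟩ := Finset.mem_image.mp hf
    exact hg1 z
  · intro z hz
    have := ht hz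
    simp only [Set.mem_iUnion] at this
    obtain ⟨w, hw, hzw⟩ := this
    exact ⟨g w, Finset.mem_image_of_mem g hw, hzw⟩

theorem bijective_res {V : X.Opens} (hV : IsAffineOpen V) (U' : X.Opens) (hle : U' ≤ V)
    (hc : IsCompact (U' : Set X))
    (hdep : ∀ z : X, z ∈ V → z ∉ U' → Dep2 (X.presheaf.stalk z)) :
    Function.Bijective (X.presheaf.map (homOfLE hle).op).hom := by
  obtain ⟨F, hF1, hF2⟩ := exists_finset_basicOpen hV U' hle hc
  letI alg : Algebra Γ(X, V) Γ(X, U') := (X.presheaf.map (homOfLE hle).op).hom.toAlgebra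
  have hsmul : ∀ (a : Γ(X, V)) (τ : Γ(X, U')),
      a • τ = (X.presheaf.map (homOfLE hle).op).hom a * τ := fun a τ => rfl
  have hunit : ∀ (g : Γ(X, V)) (hg : g ∈ F),
      IsUnit ((X.presheaf.map (homOfLE ((hF1 g hg).trans hle)).op).hom g) := by
    intro g hg
    exact X.toRingedSpace.isUnit_res_basicOpen g
  have H : HData Γ(X, V) Γ(X, U') F := by
    refine ⟨?_, ?_, ?_⟩
    · -- separatedness
      intro τ hτ
      refine X.sheaf.eq_of_locally_eq' (fun g : F => X.basicOpen g.1) U'
        (fun g => homOfLE (hF1 g.1 g.2)) ?_ τ 0 ?_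
      · intro z hz
        obtain ⟨g, hg, hzg⟩ := hF2 z hz
        exact Opens.mem_iSup.mpr ⟨⟨g, hg⟩, hzg⟩
      · rintro ⟨g, hg⟩
        obtain ⟨N, hN⟩ := hτ g hg
        rw [hsmul, map_pow] at hN
        have h2 := congrArg (X.presheaf.map (homOfLE (hF1 g hg)).op).hom hN
        rw [map_mul, map_pow, res_res, map_zero] at h2
        have h3 := ((hunit g hg).pow N).mul_right_eq_zero.mp h2
        change (X.presheaf.map (homOfLE (hF1 g hg)).op).hom τ =
          (X.presheaf.map (homOfLE (hF1 g hg)).op).hom 0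
        rw [h3, map_zero]
    · -- surjectivity up to powers
      intro g hg τ
      have hloc := hV.isLocalization_basicOpen g
      obtain ⟨⟨c, ⟨_, N, rfl⟩⟩, hcN⟩ := IsLocalization.surj (Submonoid.powers g)
        ((X.presheaf.map (homOfLE (hF1 g hg)).op).hom τ)
      simp only at hcN
      -- `hcN : τ|_{D(g)} * algebraMap (g^N) = algebraMap c`
      set g' := (X.presheaf.map (homOfLE hle).op).hom g with hg'
      have hD : X.basicOpen g' ≤ X.basicOpen g := by
        rw [hg', Scheme.basicOpen_res]; exact inf_le_right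
      have hzero : (X.presheaf.map (homOfLE (hF1 g hg)).op).hom
          (g' ^ N * τ - (X.presheaf.map (homOfLE hle).op).hom c) = 0 := by
        rw [map_sub, map_mul, map_pow, hg', res_res, res_res, sub_eq_zero, mul_comm]
        rw [← map_pow]
        exact hcN
      have hzero' : (X.presheaf.map (homOfLE (X.basicOpen_le g')).op).hom
          (g' ^ N * τ - (X.presheaf.map (homOfLE hle).op).hom c) = 0 := by
        rw [← res_res (hF1 g hg) hD, hzero, map_zero]
      obtain ⟨M, hM⟩ := exists_pow_mul_eq_zero_of_res_basicOpen_eq_zero_of_isCompact X hc _ g'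
        hzero'
      refine ⟨M + N, g ^ M * c, ?_⟩
      rw [hsmul, map_pow, ← hg']
      change _ = (X.presheaf.map (homOfLE hle).op).hom (g ^ M * c)
      rw [map_mul, map_pow, ← hg']
      rw [mul_sub, sub_eq_zero] at hM
      rw [← hM, pow_add, mul_assoc]
    · -- injectivity up to powers
      intro g hg c hc0
      have hc0' : (X.presheaf.map (homOfLE hle).op).hom c = 0 := hc0
      have h2 : (X.presheaf.map (homOfLE (X.basicOpen_le g)).op).hom c = 0 := by
        rw [← res_res hle (hF1 g hg), hc0', map_zero]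
      exact exists_pow_mul_eq_zero_of_res_basicOpen_eq_zero_of_isAffineOpen X hV c g h2
  have hdep' : ∀ (𝔭 : Ideal Γ(X, V)) [𝔭.IsPrime], (∀ f ∈ F, f ∈ 𝔭) →
      Dep2 (Localization.AtPrime 𝔭) := by
    intro 𝔭 hp h𝔭
    let y : PrimeSpectrum Γ(X, V) := ⟨𝔭, hp⟩
    have hz : hV.fromSpec y ∈ V := (hV.isoSpec.inv _).2
    have hzU : hV.fromSpec y ∉ U' := by
      intro hmem
      obtain ⟨g, hg, hzg⟩ := hF2 _ hmem
      have : y ∈ hV.fromSpec ⁻¹ᵁ X.basicOpen g := hzg
      rw [hV.fromSpec_preimage_basicOpen] at this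
      exact this (h𝔭 g hg)
    have hloc := hV.isLocalization_stalk' y hz
    letI := TopCat.Presheaf.algebra_section_stalk X.presheaf ⟨hV.fromSpec y, hz⟩
    have hloc' : IsLocalization.AtPrime (X.presheaf.stalk (hV.fromSpec y)) 𝔭 := hloc
    have e : Localization.AtPrime 𝔭 ≃ₐ[Γ(X, V)] X.presheaf.stalk (hV.fromSpec y) :=
      IsLocalization.algEquiv 𝔭.primeCompl _ _
    exact (hdep _ hz hzU).of_ringEquiv e.symm.toRingEquiv
  exact H.bijective hdep'

end Groth.Agent.Helper19.Hartogs
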